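import Cfsg.Agent.H73.Rg.HTbl6
import Cfsg.Agent.H73.Rg.HAlt
import Cfsg.Agent.H190.Cov.K98
import Cfsg.Agent.H190.Cov.K128
import Cfsg.Agent.H72.Same.Two
import Cfsg.Agent.H427.Rg.Aut

/-!
# S3691: half classes in `²E₆(q)`, `q ≥ 3` (helper851)

* `k1T`, `k2T` : a subgroup of `²E₆(q)` containing half of the classes 18, 12 (18, 8) is the whole group
* `k3T` : a proper subgroup containing half of the classes 8, 12 contains no element of class 18 or 10
-/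

set_option autoImplicit false

namespace Cfsg.Agent.H851.Rg

open Cfsg Cfsg.Agent.OrdDiv Cfsg.Agent.H436 Cfsg.Agent.H902 Cfsg.Agent.H902.Names Cfsg.Agent.H915.GN
  Cfsg.Agent.H290.ElReg Cfsg.Agent.H290.ElTab Cfsg.Agent.H290.ElCross Cfsg.Agent.H264.FKS Cfsg.Agent.H56.Exc
  Cfsg.Agent.H325.Loc Cfsg.Agent.H325.IsoExc Cfsg.Agent.H325.IsoFree Cfsg.Agent.H563.KG Cfsg.Agent.H73.Rg
  Cfsg.Agent.H190.Cov

/-- the orders of the tori -/
def MtE (q c : ℕ) : ℕ :=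
  if c = 18 then Ph 18 q else if c = 12 then Ph 12 q * (q ^ 2 - q + 1) else Ph 8 q * (q ^ 2 - 1)

/-- the automizers -/
def EtE (c : ℕ) : ℕ := if c = 18 then 9 else if c = 12 then 12 else 8

section

variable {F : Type} [Field F] [Fintype F] {p f : ℕ}

theorem charP_te6 (hp : p.Prime) (hf : 1 ≤ f) (hK : Fintype.card F = (p ^ f) ^ 2) : CharP F p := by
  obtain ⟨p', f', hc, hp', hf', h⟩ := exists_pf F
  rw [hK, ← pow_mul] at h
  have h1 : p' = p := by
    have h2 : p' ∣ p ^ (f * 2) := by rw [h]; exact dvd_pow_self _ (by omega)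
    exact (Nat.prime_dvd_prime_iff_eq hp' hp).1 (hp'.dvd_of_dvd_pow h2)
  rwa [← h1]

theorem mm18 {q : ℕ} (hq1 : 1 ≤ q) : ((Ph 18 q : ℕ) : ℤ) = 1 - (q : ℤ) ^ 3 + (q : ℤ) ^ 6 := by
  rw [cast_Ph18 _ hq1]; ring

theorem mm12 {q : ℕ} (hq1 : 1 ≤ q) : ((Ph 12 q * (q ^ 2 - q + 1) : ℕ) : ℤ) =
    (1 - (q : ℤ) ^ 2 + (q : ℤ) ^ 4) * (1 - (q : ℤ) + (q : ℤ) ^ 2) := by
  have hle : q ≤ q ^ 2 := Nat.le_self_pow (by norm_num) _
  rw [Nat.cast_mul, cast_Ph12 _ hq1, Nat.cast_add, Nat.cast_sub hle]; push_cast; ring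

theorem mm8 {q : ℕ} (hq1 : 1 ≤ q) : ((Ph 8 q * (q ^ 2 - 1) : ℕ) : ℤ) =
    (1 + (q : ℤ) ^ 4) * ((q : ℤ) ^ 2 - 1) := by
  rw [Nat.cast_mul, cast_Ph8, cast_sub_one hq1]; ring

theorem bigTE {c : ℕ} (hc : c = 18 ∨ c = 12 ∨ c = 8) (hp : p.Prime) (hf : 1 ≤ f) (hK : Fintype.card F = (p ^ f) ^ 2)
    {r : ℕ} (hr : Prim (p ^ f) c r) : Big ↥(Lie.twistedE6 F (p ^ f)) r (MtE (p ^ f) c) (EtE c) := by
  have hq1 : 1 ≤ p ^ f := Nat.one_le_pow _ _ hp.pos
  have hq : IsPrimePow (p ^ f) := hp.isPrimePow.pow (by omega)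
  rcases hc with rfl | rfl | rfl
  · exact big_TE6_18 hq hK (mm18 hq1) hr
  · exact big_TE6_12 hq hK (mm12 hq1) hr
  · exact Cfsg.Agent.H190.Odd.big_TE6_8 hq hK (mm8 hq1) hr

theorem mtE_dvd {q c : ℕ} (hq1 : 1 ≤ q) (hc : c = 18 ∨ c = 12 ∨ c = 8) : MtE q c ∣ q ^ c - 1 := by
  rcases hc with rfl | rfl | rfl
  · exact Ph_dvd c18 hq1
  · refine dvd_of_cast (c := ((q : ℤ) ^ 2 + 1) * ((q : ℤ) ^ 2 - 1) * ((q : ℤ) ^ 2 + q + 1)) ?_
    have h1 : MtE q 12 = Ph 12 q * (q ^ 2 - q + 1) := rfl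
    rw [h1, cast_sub_one hq1, mm12 hq1]
    ring
  · refine dvd_of_cast (c := ((q : ℤ) ^ 2 + 1)) ?_
    have h1 : MtE q 8 = Ph 8 q * (q ^ 2 - 1) := rfl
    rw [h1, cast_sub_one hq1, mm8 hq1]
    ring

theorem etE_le {c s : ℕ} (hc : c = 18 ∨ c = 12 ∨ c = 8) (hs : s.Prime) (h : s ∣ EtE c) : s ≤ 7 := by
  rcases hc with rfl | rfl | rfl
  · exact le_seven'' hs (n := 9) (by omega) h
  · exact le_seven hs (n := 12) (by omega) h
  · exact le_seven'' hs (n := 8) (by omega) h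

/-- `L₂(73)` is excluded by its automizers -/
theorem exc73 {B : Type} [Group B] [Finite B] {S : Subgroup B}
    (hcon : ConH p f (MtE (p ^ f)) EtE 18 12 S) (hp : p.Prime) (hf : 1 ≤ f) {g : Grp} {X : Art.Sh} {l a : ℕ}
    (hl : l.Prime) (hg : IsNamed g S) (hgl : IsLie g X l a) (hx : (X, (l, a)) ∈ [((Art.Sh.L 2 : Art.Sh), (73, 1))]) :
    False := by
  rw [List.mem_singleton] at hx
  simp only [Prod.mk.injEq] at hx
  obtain ⟨rfl, rfl, rfl⟩ := hx
  cases hgl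
  obtain ⟨r, hr, hrS⟩ := hcon.h1 18 (by simp)
  obtain ⟨s, hs, hsS⟩ := hcon.h1 12 (by simp)
  have hcard : Nat.card S = 2 ^ 3 * 3 ^ 2 * 37 * 73 := by
    have h1 := hg.eq
    have h2 : den (.psl 2 (73 ^ 1)) = 144 := by decide +kernel
    have h3 : num (.psl 2 (73 ^ 1)) = 144 * (2 ^ 3 * 3 ^ 2 * 37 * 73) := by decide +kernel
    rw [h2, h3] at h1
    exact Nat.eq_of_mul_eq_mul_left (by norm_num) h1
  have key : ∀ {c x : ℕ}, 12 ≤ c → Prim p (f * c) x → x ∣ Nat.card S → x = 37 ∨ x = 73 := by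
    intro c x hc hx hxS
    have h1 := mod_of_prim' hp.two_le hx
    have h2 := hx.prime.two_le
    have h3 := Nat.le_of_dvd (by omega) h1
    have h4 : 1 * c ≤ f * c := Nat.mul_le_mul_right _ hf
    rw [hcard] at hxS
    rcases hx.prime.dvd_mul.1 hxS with h5 | h5
    · rcases hx.prime.dvd_mul.1 h5 with h6 | h6
      · exfalso
        rcases hx.prime.dvd_mul.1 h6 with h7 | h7
        · have := Nat.le_of_dvd (by norm_num) (hx.prime.dvd_of_dvd_pow h7)
          omega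
        · have := Nat.le_of_dvd (by norm_num) (hx.prime.dvd_of_dvd_pow h7)
          omega
      · exact Or.inl ((Nat.prime_dvd_prime_iff_eq hx.prime (by norm_num)).1 h6)
    · exact Or.inr ((Nat.prime_dvd_prime_iff_eq hx.prime (by norm_num)).1 h5)
  have k1 := key (by norm_num) hr hrS
  have k2 := key (by norm_num) hs hsS
  have hrs : r ≠ s := by
    rintro rfl
    have h1 : f * 18 = f * 12 := by
      exact Cfsg.Agent.H190.Cov.Prim.unique hr hs
    omega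
  have hgen : ∀ {e : ℕ}, Big S 73 (MtE (p ^ f) e) (EtE e) → (e = 18 ∨ e = 12) → False := by
    intro e hb he
    obtain ⟨K, _, _, hK, ⟨Φ⟩⟩ := hg.real
    have h1 := Cfsg.Agent.H427.Rg.psl_aut (l := 73) (by norm_num) (by norm_num) (F := K) (by rw [hK, pow_one]) Φ hb
    rcases he with rfl | rfl
    · exact absurd h1 (by decide)
    · exact absurd h1 (by decide)
  rcases k1 with rfl | rfl
  · rcases k2 with rfl | rfl
    · exact hrs rfl
    · exact hgen (hcon.prs 12 (by simp) 73 hs (hsS.trans (Subgroup.card_subgroup_dvd_card S))).1 (Or.inr rfl)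
  · exact hgen (hcon.prs 18 (by simp) 73 hr (hrS.trans (Subgroup.card_subgroup_dvd_card S))).1 (Or.inl rfl)

/-- the order -/
theorem card_te6_dvd (tb : OrderTable.{0}) (hp : p.Prime) (hf : 1 ≤ f) (hK : Fintype.card F = (p ^ f) ^ 2) :
    Nat.card ↥(Lie.twistedE6 F (p ^ f)) ∣ OL .TE6 (p ^ f) := by
  have hT := named_te6 (F := F) tb (hp.isPrimePow.pow (by omega)) hK
  have hOL : num (.te6 (p ^ f)) = OL .TE6 (p ^ f) := rfl
  rw [← hOL, ← hT.eq]
  exact Dvd.intro_left _ rfl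

/-- reducedness -/
def RedT (F : Type) [Field F] [Fintype F] (p f c c' : ℕ) : Prop :=
  ∀ B : Subgroup ↥(Lie.twistedE6 F (p ^ f)), HAt p f c B → HAt p f c' B →
    Red ↥B (Pr (FmH p f [c, c'] (MtE (p ^ f)) EtE (Nat.card B)))

/-- **the classes 18, 12** -/
theorem k1T (tb : OrderTable.{0}) (hcyc : CycFixSolv.{0}) (hcf : CF) (hp : p.Prime) (hf : 1 ≤ f)
    (hK : Fintype.card F = (p ^ f) ^ 2) (hq3 : 3 ≤ p ^ f) (hred : RedT F p f 18 12)
    (B : Subgroup ↥(Lie.twistedE6 F (p ^ f))) (h : HOff p f [18, 12] B) : B = ⊤ := by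
  have := charP_te6 hp hf hK
  have hfin : Finite ↥(Lie.twistedE6 F (p ^ f)) := inferInstance
  have hq : IsPrimePow (p ^ f) := hp.isPrimePow.pow (by omega)
  have hT := named_te6 (F := F) tb hq hK
  have hq1 : 1 ≤ p ^ f := by omega
  have h18 : HAt p f 18 B := h 18 (by simp)
  have h12 : HAt p f 12 B := h 12 (by simp)
  have hmem : ∀ c ∈ [18, 12], c = 18 ∨ c = 12 ∨ c = 8 := by decide
  have hsep : ∀ c ∈ [18, 12], ¬ Nat.card B ∣ EtE c * MtE (p ^ f) c :=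
    sepH hp hf (by norm_num) (by norm_num) h18 h12 (fun c hc => mtE_dvd hq1 (hmem c hc))
      (fun c hc s hs hd => etE_le (hmem c hc) hs hd) (by norm_num) (by norm_num)
  obtain ⟨S, hcon, g, hg, hch⟩ := mainR (E := EtE) (M := MtE (p ^ f)) tb hcyc hcf altAut (D := Dt6b) tblH_t6b hp hf hq3
    (F := F) (fth_TE6 _) (card_te6_dvd tb hp hf hK) (fun c hc r hr => bigTE (hmem c hc) hp hf hK hr) h18 h12 hsep
    (by intro c hc; exact absurd hc List.not_mem_nil) (hred B h18 h12)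
    (fun S hcon g l X a hl hg hgl hx => exc73 hcon hp hf hl hg hgl hx)
  have hdS : Nat.card S ∣ num (.te6 (p ^ f)) := IsNamed.card_dvd hT S
  have hh1 : Cfsg.Agent.H72.Same.H1 p f 18 (Nat.card S) := hcon.h1 18 (by simp [Dt6b])
  have hh2 : Cfsg.Agent.H72.Same.H1 p f 12 (Nat.card S) := hcon.h1 12 (by simp [Dt6b])
  rcases Cfsg.Agent.H72.Same.charp_te6_reg hp hf hg.cond hch hg.eq hdS hh1 hh2 with rfl | rfl
  · exact eq_top_of_name hT hg
  · exfalso
    obtain ⟨r, hr, hrS⟩ := hh1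
    exact kill_psu4 hp hf hg (prim_q hf hr)
      (hcon.prs 18 (by simp [Dt6b]) r hr (hrS.trans (Subgroup.card_subgroup_dvd_card S))).1.card

/-- **the classes 18, 8** -/
theorem k2T (tb : OrderTable.{0}) (hcyc : CycFixSolv.{0}) (hcf : CF) (hp : p.Prime) (hf : 1 ≤ f)
    (hK : Fintype.card F = (p ^ f) ^ 2) (hq3 : 3 ≤ p ^ f) (hred : RedT F p f 18 8)
    (B : Subgroup ↥(Lie.twistedE6 F (p ^ f))) (h : HOff p f [18, 8] B) : B = ⊤ := by
  have := charP_te6 hp hf hK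
  have hfin : Finite ↥(Lie.twistedE6 F (p ^ f)) := inferInstance
  have hq : IsPrimePow (p ^ f) := hp.isPrimePow.pow (by omega)
  have hT := named_te6 (F := F) tb hq hK
  have hq1 : 1 ≤ p ^ f := by omega
  have h18 : HAt p f 18 B := h 18 (by simp)
  have h8 : HAt p f 8 B := h 8 (by simp)
  have hmem : ∀ c ∈ [18, 8], c = 18 ∨ c = 12 ∨ c = 8 := by decide
  have hsep : ∀ c ∈ [18, 8], ¬ Nat.card B ∣ EtE c * MtE (p ^ f) c :=
    sepH hp hf (by norm_num) (by norm_num) h18 h8 (fun c hc => mtE_dvd hq1 (hmem c hc))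
      (fun c hc s hs hd => etE_le (hmem c hc) hs hd) (by norm_num) (by norm_num)
  obtain ⟨S, hcon, g, hg, hch⟩ := mainR (E := EtE) (M := MtE (p ^ f)) tb hcyc hcf altAut (D := Dt6a) tblH_t6a hp hf hq3
    (F := F) (fth_TE6 _) (card_te6_dvd tb hp hf hK) (fun c hc r hr => bigTE (hmem c hc) hp hf hK hr) h18 h8 hsep
    (by intro c hc; exact absurd hc List.not_mem_nil) (hred B h18 h8)
    (fun S hcon g l X a hl hg hgl hx => absurd hx (by simp))
  have hdS : Nat.card S ∣ num (.te6 (p ^ f)) := IsNamed.card_dvd hT S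
  have hh1 : Cfsg.Agent.H72.Same.H1 p f 18 (Nat.card S) := hcon.h1 18 (by simp [Dt6a])
  have hh2 : Cfsg.Agent.H72.Same.H1 p f 8 (Nat.card S) := hcon.h1 8 (by simp [Dt6a])
  obtain rfl := Cfsg.Agent.H72.Same.charp_te6_818 hp hf hg.cond hch hg.eq hdS hh2 hh1
  exact eq_top_of_name hT hg

/-- a prime of class 18 or 10 does not divide the order of `F₄(q)` -/
theorem not_dvd_f4 {q r d : ℕ} (hr : Prim q d r) (hd : d = 18 ∨ d = 10) : ¬ r ∣ num (.f4 q) := by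
  intro h
  have h1 : r ∣ q ^ 24 * ((q ^ 2 - 1) * (q ^ 6 - 1) * (q ^ 8 - 1) * (q ^ 12 - 1)) := h
  have h2 : ∀ k, r ∣ q ^ k - 1 → d ∣ k := fun k hk => (hr.dvd_iff k).1 hk
  rcases hr.prime.dvd_mul.1 h1 with h3 | h3
  · exact hr.not_dvd (hr.prime.dvd_of_dvd_pow h3)
  rcases hr.prime.dvd_mul.1 h3 with h3 | h3
  · rcases hr.prime.dvd_mul.1 h3 with h3 | h3
    · rcases hr.prime.dvd_mul.1 h3 with h3 | h3
      · have := h2 _ h3
        rcases hd with rfl | rfl <;> norm_num at this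
      · have := h2 _ h3
        rcases hd with rfl | rfl <;> norm_num at this
    · have := h2 _ h3
      rcases hd with rfl | rfl <;> norm_num at this
  · have := h2 _ h3
    rcases hd with rfl | rfl <;> norm_num at this

/-- **the classes 8, 12** -/
theorem k3T (tb : OrderTable.{0}) (hcyc : CycFixSolv.{0}) (hcf : CF) (hp : p.Prime) (hf : 1 ≤ f)
    (hK : Fintype.card F = (p ^ f) ^ 2) (hq3 : 3 ≤ p ^ f) (hred : RedT F p f 8 12)
    (B : Subgroup ↥(Lie.twistedE6 F (p ^ f))) (hne : B ≠ ⊤) (h : HOff p f [8, 12] B) :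
    (∀ r, Prim (p ^ f) 18 r → ¬ r ∣ Nat.card B) ∧ ∀ r, Prim (p ^ f) 10 r → ¬ r ∣ Nat.card B := by
  have := charP_te6 hp hf hK
  have hfin : Finite ↥(Lie.twistedE6 F (p ^ f)) := inferInstance
  have hq : IsPrimePow (p ^ f) := hp.isPrimePow.pow (by omega)
  have hT := named_te6 (F := F) tb hq hK
  have hq1 : 1 ≤ p ^ f := by omega
  have h8 : HAt p f 8 B := h 8 (by simp)
  have h12 : HAt p f 12 B := h 12 (by simp)
  have hmem : ∀ c ∈ [8, 12], c = 18 ∨ c = 12 ∨ c = 8 := by decide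
  have hsep : ∀ c ∈ [8, 12], ¬ Nat.card B ∣ EtE c * MtE (p ^ f) c :=
    sepH hp hf (by norm_num) (by norm_num) h8 h12 (fun c hc => mtE_dvd hq1 (hmem c hc))
      (fun c hc s hs hd => etE_le (hmem c hc) hs hd) (by norm_num) (by norm_num)
  obtain ⟨S, hcon, g, hg, hch⟩ := mainR (E := EtE) (M := MtE (p ^ f)) tb hcyc hcf altAut (D := Dt6c) tblH_t6c hp hf hq3
    (F := F) (fth_TE6 _) (card_te6_dvd tb hp hf hK) (fun c hc r hr => bigTE (hmem c hc) hp hf hK hr) h8 h12 hsep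
    (by intro c hc; exact absurd hc List.not_mem_nil) (hred B h8 h12)
    (fun S hcon g l X a hl hg hgl hx => absurd hx (by simp))
  have hdS : Nat.card S ∣ num (.te6 (p ^ f)) := IsNamed.card_dvd hT S
  have hh1 : Cfsg.Agent.H72.Same.H1 p f 8 (Nat.card S) := hcon.h1 8 (by simp [Dt6c])
  have hh2 : Cfsg.Agent.H72.Same.H1 p f 12 (Nat.card S) := hcon.h1 12 (by simp [Dt6c])
  rcases Cfsg.Agent.H72.Same.charp_te6_812 hp hf hg.cond hch hg.eq hdS hh1 hh2 with rfl | rfl | rfl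
  · exact absurd (eq_top_of_name hT hg) hne
  · have key : ∀ r d, (d = 18 ∨ d = 10) → Prim (p ^ f) d r → ¬ r ∣ Nat.card B := by
      intro r d hd hr hrB
      rw [← S.card_mul_index] at hrB
      have hd8 : ¬ d ∣ 8 := by rcases hd with rfl | rfl <;> norm_num
      rcases hr.prime.dvd_mul.1 hrB with h1 | h1
      · exact not_dvd_f4 hr hd (hg.eq ▸ h1.mul_left _)
      · have h2 := h1.trans (hcon.idx 8 (by simp [Dt6c]))
        rcases hr.prime.dvd_mul.1 h2 with h3 | h3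
        · have h4 : r ∣ 2 ^ 3 := h3
          have h5 := Nat.le_of_dvd (by norm_num) (hr.prime.dvd_of_dvd_pow h4)
          have h6 := lt_of_prim (by omega) (by omega) hr
          omega
        · exact hd8 ((hr.dvd_iff 8).1 (h3.trans (mtE_dvd hq1 (by omega))))
    exact ⟨fun r hr => key r 18 (Or.inl rfl) hr, fun r hr => key r 10 (Or.inr rfl) hr⟩
  · exfalso
    obtain ⟨r, hr, hrS⟩ := hh1
    exact kill_psl3_big hp hf hg (prim_q hf hr)
      (hcon.prs 8 (by simp [Dt6c]) r hr (hrS.trans (Subgroup.card_subgroup_dvd_card S))).1.card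

end

end Cfsg.Agent.H851.Rg
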