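import Cfsg.Agent.H851.Dg.NumT

/-!
# The dimension of a classical group is at most logarithmic in its order
-/

set_option autoImplicit false

namespace Cfsg.Agent.H851.Rg

open Cfsg.Agent.OrdDiv Cfsg.Agent.H436 Cfsg.Agent.H851.Dg
open Cfsg.Agent.H278.El.AltNum (dimOf)

theorem pow_le_of_dvd {q N d D num c : ℕ} (h : D * c = num) (hd : q ^ N ∣ num) (hc : Nat.Coprime q D) (hq : 2 ≤ q)
    (hc0 : 0 < c) (hN : d ≤ N) : 2 ^ d ≤ c := by
  have h1 : q ^ N ∣ c := (Nat.Coprime.pow_left N hc).dvd_of_dvd_mul_left (h ▸ hd)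
  exact (Nat.pow_le_pow_right (by norm_num) hN).trans ((Nat.pow_le_pow_left hq N).trans (Nat.le_of_dvd hc0 h1))

theorem coprime_pred {q : ℕ} (hq : 2 ≤ q) : Nat.Coprime q (q - 1) := by
  have h := Nat.coprime_self_add_right.2 (Nat.coprime_one_right (q - 1))
  have : q - 1 + 1 = q := by omega
  rw [this] at h
  exact h.symm

theorem coprime_pow_pred {q k : ℕ} (hq : 2 ≤ q) (hk : k ≠ 0) : Nat.Coprime q (q ^ k - 1) := by
  refine Nat.Coprime.coprime_dvd_left (dvd_pow_self q hk) (coprime_pred ?_)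
  exact hq.trans (Nat.le_self_pow hk q)

theorem coprime_succ (q : ℕ) : Nat.Coprime q (q + 1) := by
  simp

theorem coprime_pow_succ {q k : ℕ} (hk : k ≠ 0) : Nat.Coprime q (q ^ k + 1) :=
  Nat.Coprime.coprime_dvd_left (dvd_pow_self q hk) (coprime_succ _)

theorem dvd_glN {n q : ℕ} (hn : 3 ≤ n) : q ^ n ∣ glN n q := by
  obtain ⟨k, rfl⟩ : ∃ k, n = k + 2 := ⟨n - 2, by omega⟩
  unfold glN
  rw [List.range_succ, List.range_succ, List.map_append, List.map_append, List.prod_append, List.prod_append]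
  simp only [List.map_cons, List.map_nil, List.prod_cons, List.prod_nil, mul_one]
  have h1 : q ^ k ∣ q ^ (k + 2) - q ^ k := Nat.dvd_sub (pow_dvd_pow q (by omega)) dvd_rfl
  have h2 : q ^ (k + 1) ∣ q ^ (k + 2) - q ^ (k + 1) := Nat.dvd_sub (pow_dvd_pow q (by omega)) dvd_rfl
  refine (pow_dvd_pow q (show k + 2 ≤ k + (k + 1) by omega)).trans ?_
  rw [pow_add]
  exact mul_dvd_mul (h1.mul_left _) h2

/-- **`2 ^ dim ≤ |T|`** -/
theorem two_pow_dim_le {g : Grp} {T : Type} [Group T] [Finite T] (hT : IsNamed g T) (hg : BigCl g) :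
    2 ^ dimOf g ≤ Nat.card T := by
  have hc := hT.cond
  have h := hT.eq
  have h0 : 0 < Nat.card T := Nat.card_pos
  cases g with
  | psl n q =>
    have hn : 4 ≤ n := hg
    have hq : 2 ≤ q := hc.2.2.two_le
    exact pow_le_of_dvd h (dvd_glN (by omega)) (Nat.Coprime.mul_right
      (Nat.Coprime.coprime_dvd_right (Nat.gcd_dvd_right _ _) (coprime_pred hq)) (coprime_pred hq)) hq h0 le_rfl
  | psp m q =>
    have hn : 3 ≤ m := hg
    have hq : 2 ≤ q := hc.2.2.two_le
    refine pow_le_of_dvd h (Dvd.intro _ rfl)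
      (Nat.Coprime.coprime_dvd_right (Nat.gcd_dvd_right _ _) (coprime_pred hq)) hq h0 ?_
    show 2 * m ≤ m ^ 2
    nlinarith
  | psu n q =>
    have hn : 4 ≤ n := hg
    have hq : 2 ≤ q := hc.2.2.two_le
    refine pow_le_of_dvd h (Dvd.intro _ rfl) (Nat.Coprime.mul_right
      (Nat.Coprime.coprime_dvd_right (Nat.gcd_dvd_right _ _) (coprime_succ q)) (coprime_succ q)) hq h0 ?_
    show n ≤ n * (n - 1) / 2
    have h3 : n * 3 ≤ n * (n - 1) := Nat.mul_le_mul_left _ (by omega)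
    omega
  | oodd m q =>
    have hn : 3 ≤ m := hg
    have hq : 2 ≤ q := hc.2.2.two_le
    refine pow_le_of_dvd h (Dvd.intro _ rfl) (Nat.coprime_two_right.2 hc.2.1) hq h0 ?_
    show 2 * m + 1 ≤ m ^ 2
    nlinarith
  | oplus m q =>
    have hn : 4 ≤ m := hg
    have hq : 2 ≤ q := hc.2.two_le
    refine pow_le_of_dvd h (Dvd.intro _ rfl)
      (Nat.Coprime.coprime_dvd_right (Nat.gcd_dvd_right _ _) (coprime_pow_pred hq (by omega))) hq h0 ?_
    show 2 * m ≤ m * (m - 1)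
    have h3 : m * 3 ≤ m * (m - 1) := Nat.mul_le_mul_left _ (by omega)
    omega
  | ominus m q =>
    have hn : 4 ≤ m := hg
    have hq : 2 ≤ q := hc.2.two_le
    refine pow_le_of_dvd h (Dvd.intro _ rfl)
      (Nat.Coprime.coprime_dvd_right (Nat.gcd_dvd_right _ _) (coprime_pow_succ (by omega))) hq h0 ?_
    show 2 * m ≤ m * (m - 1)
    have h3 : m * 3 ≤ m * (m - 1) := Nat.mul_le_mul_left _ (by omega)
    omega
  | _ => exact hg.elim

/-- **The dimension is at most logarithmic.** -/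
theorem dim_le_log : ∃ C : ℝ, 0 < C ∧ ∀ (g : Grp) (T : Type) [Group T] [Finite T], IsNamed g T → BigCl g →
    (dimOf g : ℝ) ≤ C * Real.log (Nat.card T) := by
  have h2 : 0 < Real.log 2 := Real.log_pos (by norm_num)
  refine ⟨1 / Real.log 2, by positivity, fun g T _ _ hT hg => ?_⟩
  have h1 : (2 : ℝ) ^ dimOf g ≤ Nat.card T := by exact_mod_cast two_pow_dim_le hT hg
  have h3 := Real.log_le_log (by positivity) h1
  rw [Real.log_pow] at h3
  rw [div_mul_eq_mul_div, one_mul, le_div_iff₀ h2]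
  exact h3

end Cfsg.Agent.H851.Rg
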